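import Cfsg.Agent.Lib.Char.RealPPrime.Relative
import Cfsg.Agent.Lib.Char.RealChar
import Cfsg.Agent.Lib.Char.TwoNonzero
import Cfsg.Agent.Lib.Char.InvariantRelative
import Cfsg.Agent.Lib.Char.Counting

/-!
# Characters of odd degree over a linear character, real or arbitrary
-/

set_option autoImplicit false
set_option linter.unusedSectionVars false

namespace CfsgLib.Char.OddDegreeCount

open scoped ComplexConjugate
open Cfsg CfsgLib.Char.RealPPrime

universe u

variable {A B : Type u} [Group A] [Group B]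

/-- Odd degree, real valued if `b`, and equal to a multiple of `lam` along `ι`. -/
def Sel (b : Prop) {Z : Type u} [Group Z] (ι : Z →* A) (lam : Z →* ℂˣ) (χ : IrrCharacter A) : Prop :=
  Odd (charDegree (χ : A → ℂ)) ∧ (b → ∀ a, ((χ : A → ℂ) a).im = 0) ∧
    ∀ z, (χ : A → ℂ) (ι z) = (χ : A → ℂ) 1 * (lam z : ℂ)

/-- Counting descends along a surjection whose kernel is killed by the characters counted. -/
theorem card_sel_surj [Finite A] [Finite B] (b : Prop) {Z : Type u} [Group Z] (ι : Z →* A) (lam : Z →* ℂˣ)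
    (f : A →* B) (hf : Function.Surjective f) (ι' : Z →* B) (hι : ∀ z, f (ι z) = ι' z)
    (htriv : ∀ χ, Sel b ι lam χ → ∀ a, f a = 1 → (χ : A → ℂ) a = (χ : A → ℂ) 1) :
    Nat.card {χ : IrrCharacter A // Sel b ι lam χ} = Nat.card {ψ : IrrCharacter B // Sel b ι' lam ψ} := by
  classical
  have := Fintype.ofFinite A
  have := Fintype.ofFinite B
  have hiff : ∀ ψ : IrrCharacter B, Sel b ι lam ⟨fun a => (ψ : B → ℂ) (f a),
      isIrrCharacter_comp_surjective ψ.2 f hf⟩ ↔ Sel b ι' lam ψ := by
    intro ψ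
    simp only [Sel, charDegree, map_one, hι]
    refine and_congr_right fun _ => and_congr_left fun _ => ?_
    exact ⟨fun h hb x => by obtain ⟨a, rfl⟩ := hf x; exact h hb a, fun h hb a => h hb _⟩
  refine (Nat.card_eq_of_bijective
    (fun ψ : {ψ : IrrCharacter B // Sel b ι' lam ψ} =>
      (⟨_, (hiff ψ.1).mpr ψ.2⟩ : {χ : IrrCharacter A // Sel b ι lam χ}))
    ⟨fun ψ ψ' e => Subtype.ext (Subtype.ext (funext fun x => ?_)), fun ⟨χ, hχ⟩ => ?_⟩).symm
  · obtain ⟨a, rfl⟩ := hf x
    exact congrFun (congrArg Subtype.val (congrArg Subtype.val e)) a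
  · obtain ⟨ψ, hψ, hψe⟩ := InvariantRelative.exists_char_of_ker f hf (isCharacter_irr χ) (htriv χ hχ)
    have hirr : IsIrrCharacter B ψ := CoreInduced.isIrr_of_comp f hψ
      (by rw [show (fun a => ψ (f a)) = (χ : A → ℂ) from funext hψe]; exact χ.2)
    have e : (⟨fun a => ψ (f a), isIrrCharacter_comp_surjective hirr f hf⟩ : IrrCharacter A) = χ :=
      Subtype.ext (funext hψe)
    exact ⟨⟨⟨ψ, hirr⟩, (hiff ⟨ψ, hirr⟩).mp (by rw [e]; exact hχ)⟩, Subtype.ext e⟩

/-- The complex conjugate character. -/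
noncomputable def cc [Finite A] (θ : IrrCharacter A) : IrrCharacter A :=
  ⟨fun a => conj ((θ : A → ℂ) a), by
    have h := irr_inv_isIrr θ
    simp only [irr_inv] at h
    exact h⟩

theorem cc_apply [Finite A] (θ : IrrCharacter A) (a : A) :
    (cc θ : A → ℂ) a = conj ((θ : A → ℂ) a) := rfl

theorem charDegree_cc [Finite A] (θ : IrrCharacter A) :
    charDegree (cc θ : A → ℂ) = charDegree (θ : A → ℂ) := by
  refine charDegree_eq_of_one ?_
  rw [cc_apply, charDegree_spec, map_natCast]

/-- A constituent on a subgroup that is the trivial character forces the kernel. -/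
theorem trivial_of_one_constituent [Fintype A] (V : Subgroup A) [V.Normal] [Fintype V] (χ : IrrCharacter A)
    (h : classInner (fun v : V => (χ : A → ℂ) v) (fun _ => 1) ≠ 0) :
    ∀ v ∈ V, (χ : A → ℂ) v = (χ : A → ℂ) 1 := by
  by_contra hc
  push Not at hc
  refine h ?_
  simp only [classInner, map_one, mul_one]
  rw [TwoNonzero.sum_subgroup_eq_zero V χ hc, mul_zero]

/-- Real characters of odd degree are trivial on normal subgroups of odd order. -/
theorem real_odd_trivial [Finite A] (V : Subgroup A) [V.Normal] (hV : Odd (Nat.card V))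
    (χ : IrrCharacter A) (hodd : Odd (charDegree (χ : A → ℂ))) (hre : ∀ a, ((χ : A → ℂ) a).im = 0) :
    ∀ v ∈ V, (χ : A → ℂ) v = (χ : A → ℂ) 1 := by
  classical
  have := Fintype.ofFinite A
  have := Fintype.ofFinite V
  have := Fintype.ofFinite (IrrCharacter V)
  have hres : IsCharacter V (fun v : V => (χ : A → ℂ) v) := isCharacter_comp (isCharacter_irr χ) V.subtype
  choose c hc using fun θ : IrrCharacter V => classInner_char_irr_nat hres θ
  have hcc : ∀ θ, c (cc θ) = c θ := fun θ => by
    have h1 : classInner (fun v : V => (χ : A → ℂ) v) (cc θ : V → ℂ) =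
        conj (classInner (fun v : V => (χ : A → ℂ) v) (θ : V → ℂ)) := by
      simp only [classInner, map_mul, map_inv₀, map_natCast, map_sum, cc_apply, Complex.conj_conj,
        Complex.conj_eq_iff_im.mpr (hre _)]
    rw [hc, hc, map_natCast] at h1
    exact_mod_cast h1
  have hsum : ∑ θ, c θ * charDegree (θ : V → ℂ) = charDegree (χ : A → ℂ) := by
    have h := congrFun (classFun_expand (isClassFunction_of_isCharacter hres)) 1
    simp only [OneMemClass.coe_one, charDegree_spec χ, Finset.sum_apply, Pi.smul_apply, smul_eq_mul] at h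
    rw [Finset.sum_congr rfl fun θ _ => by rw [hc, charDegree_spec, ← Nat.cast_mul], ← Nat.cast_sum,
      Nat.cast_inj] at h
    exact h.symm
  obtain ⟨θ, hfix, hθ⟩ : ∃ θ, cc θ = θ ∧ c θ ≠ 0 := by
    by_contra hcon
    push Not at hcon
    have h2 : ∑ θ, ((c θ * charDegree (θ : V → ℂ) : ℕ) : ZMod 2) = 0 :=
      Finset.sum_involution (fun θ _ => cc θ)
        (fun θ _ => by rw [hcc, charDegree_cc]; exact CharTwo.add_self_eq_zero _)
        (fun θ _ hne heq => hne (by rw [hcon θ heq, zero_mul, Nat.cast_zero]))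
        (fun θ _ => Finset.mem_univ _) (fun θ _ => Subtype.ext (funext fun a => Complex.conj_conj _))
    rw [← Nat.cast_sum, hsum, ZMod.natCast_eq_zero_iff_even] at h2
    exact Nat.not_even_iff_odd.mpr hodd h2
  have hθr : ∀ v, ((θ : V → ℂ) v).im = 0 := fun v =>
    Complex.conj_eq_iff_im.mp (congrFun (congrArg Subtype.val hfix) v)
  refine trivial_of_one_constituent V χ ?_
  have h1 := hc θ
  rw [irr_eq_one_of_real hV θ fun v => Complex.conj_eq_iff_im.mpr (hθr v)] at h1
  rw [h1]
  exact_mod_cast hθ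

/-- The multiplier along `ι` of a character over a linear one is the restriction of the latter. -/
theorem lam_eq_of_over [Fintype A] {M : Subgroup A} [Fintype M] {Z : Type u} [Group Z]
    (ι : Z →* A) (lam : Z →* ℂˣ) (hιM : ∀ z, ι z ∈ M) (μ : M →* ℂˣ) (χ : IrrCharacter A)
    (h : ∀ z, (χ : A → ℂ) (ι z) = (χ : A → ℂ) 1 * (lam z : ℂ))
    (hover : classInner (fun m : M => (χ : A → ℂ) m) (fun m => (μ m : ℂ)) ≠ 0) :
    ∀ z, μ ⟨ι z, hιM z⟩ = lam z := by
  classical
  let j : Z →* M := ι.codRestrict M hιM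
  have hker : j.rangeRestrict.ker ≤ lam.ker := by
    intro z hz
    rw [MonoidHom.ker_rangeRestrict, MonoidHom.mem_ker] at hz
    have h1 := h z
    rw [show ι z = 1 from congrArg Subtype.val hz] at h1
    rw [MonoidHom.mem_ker]
    refine Units.ext (mul_left_cancel₀ (irr_one_ne_zero χ) ?_)
    rw [← h1, Units.val_one, mul_one]
  let F : j.range →* ℂˣ := j.rangeRestrict.liftOfSurjective j.rangeRestrict_surjective ⟨lam, hker⟩
  have hF : ∀ z, F ⟨j z, z, rfl⟩ = lam z := fun z =>
    MonoidHom.liftOfRightInverse_comp_apply _ _ _ ⟨lam, hker⟩ z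
  have := Fintype.ofFinite j.range
  have hres : IsCharacter M (fun m : M => (χ : A → ℂ) m) := isCharacter_comp (isCharacter_irr χ) M.subtype
  let μR : IrrCharacter j.range := ⟨_, isIrrCharacter_lin (μ.comp j.range.subtype)⟩
  have h2 := classInner_comp_ne_zero j.range.subtype hres ⟨_, isIrrCharacter_lin μ⟩ hover
    (isCharacter_irr μR) (by
      show classInner (μR : j.range → ℂ) (μR : j.range → ℂ) ≠ 0
      rw [classInner_irr_self]
      exact one_ne_zero)
  have e : (fun r : j.range => (χ : A → ℂ) ((r : M) : A)) =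
      (χ : A → ℂ) 1 • fun r => (F r : ℂ) := funext fun r => by
    obtain ⟨z, hz⟩ := r.2
    rw [show r = ⟨j z, z, rfl⟩ from Subtype.ext hz.symm, Pi.smul_apply, hF, smul_eq_mul, ← h z]
    rfl
  have heq : (⟨_, isIrrCharacter_lin F⟩ : IrrCharacter j.range) = μR := by
    by_contra hne
    refine h2 ?_
    show classInner (fun r : j.range => (χ : A → ℂ) ((r : M) : A)) (μR : j.range → ℂ) = 0
    rw [e, classInner_smul_left]
    exact mul_eq_zero_of_right _ (classInner_irr_ne hne)
  intro z
  have h3 := congrFun (congrArg Subtype.val heq) ⟨j z, z, rfl⟩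
  refine Units.ext ?_
  rw [← hF z]
  exact h3.symm

/-- Characters over a linear character come from its stabilizer. -/
theorem card_over [Fintype A] (b : Prop) (M : Subgroup A) [M.Normal] [Fintype M] (μ : M →* ℂˣ)
    (hμ : b → ∀ m, conj ((μ m : ℂ)) = (μ m : ℂ))
    (hI : Odd (inertia M (fun m => (μ m : ℂ))).index) (hMI : M ≤ inertia M (fun m => (μ m : ℂ))) :
    Nat.card {χ : IrrCharacter A // Odd (charDegree (χ : A → ℂ)) ∧ (b → ∀ a, ((χ : A → ℂ) a).im = 0) ∧
      classInner (fun m : M => (χ : A → ℂ) m) (fun m => (μ m : ℂ)) ≠ 0} =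
    Nat.card {ψ : IrrCharacter (inertia M (fun m => (μ m : ℂ))) // Sel b (Subgroup.inclusion hMI) μ ψ} := by
  classical
  set φ : M → ℂ := fun m => (μ m : ℂ) with hφdef
  have hφ : IsIrrCharacter M φ := isIrrCharacter_lin μ
  have := Fintype.ofFinite (inertia M φ)
  have := Fintype.ofFinite (M.subgroupOf (inertia M φ))
  have hone : φ 1 = 1 := by simp [hφdef]
  -- over `μ` in the stabilizer means being a multiple of it
  have hscalar : ∀ ψ : IrrCharacter (inertia M φ),
      classInner (fun m : M => (ψ : inertia M φ → ℂ) (Subgroup.inclusion hMI m)) φ ≠ 0 ↔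
      ∀ m, (ψ : inertia M φ → ℂ) (Subgroup.inclusion hMI m) = (ψ : inertia M φ → ℂ) 1 * (μ m : ℂ) := by
    intro ψ
    constructor
    · intro h
      have hsub : classInner (fun x : M.subgroupOf (inertia M φ) => (ψ : inertia M φ → ℂ) x)
          (subOfFun M (T := inertia M φ) φ) ≠ 0 := by
        rw [classInner_subOfFun M hMI]; exact h
      obtain ⟨e, -, he, hres⟩ := restrict_eq_smul_of_invariant (M.subgroupOf (inertia M φ)) ψ.2
        (isIrrCharacter_subOfFun M hMI hφ) hsub (conjFun_subOfFun M le_rfl)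
      have h1 := congrFun hres 1
      intro m
      have h2 := congrFun hres ⟨Subgroup.inclusion hMI m, m.2⟩
      simp only [Pi.smul_apply, smul_eq_mul] at h1 h2
      rw [show subOfFun M (T := inertia M φ) φ 1 = 1 from hone, mul_one] at h1
      rw [h2, ← h1]
      rfl
    · intro h
      rw [show (fun m : M => (ψ : inertia M φ → ℂ) (Subgroup.inclusion hMI m)) =
        (ψ : inertia M φ → ℂ) 1 • φ from funext fun m => (h m).trans (smul_eq_mul _ _).symm,
        classInner_smul_left, show classInner φ φ = 1 from classInner_irr_self (⟨φ, hφ⟩ : IrrCharacter M),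
        mul_one]
      exact irr_one_ne_zero ψ
  have hdeg : ∀ ψ : IrrCharacter (inertia M φ),
      charDegree (indFun (inertia M φ) (ψ : inertia M φ → ℂ)) =
        (inertia M φ).index * charDegree (ψ : inertia M φ → ℂ) := fun ψ => by
    refine charDegree_eq_of_one ?_
    rw [indFun_one, charDegree_spec, Nat.cast_mul]
  let F : {ψ : IrrCharacter (inertia M φ) // Sel b (Subgroup.inclusion hMI) μ ψ} →
      {χ : IrrCharacter A // Odd (charDegree (χ : A → ℂ)) ∧ (b → ∀ a, ((χ : A → ℂ) a).im = 0) ∧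
        classInner (fun m : M => (χ : A → ℂ) m) φ ≠ 0} := fun ψ =>
    ⟨⟨_, (correspondence_irr M hφ hMI ψ.1 ((hscalar ψ.1).mpr ψ.2.2.2)).1⟩, by
      show Odd (charDegree (indFun _ _))
      rw [hdeg]
      exact hI.mul ψ.2.1, fun hb a => by
      refine indFun_real _ _ 1 (fun z => by simp) (fun z z' e => ?_) a
      rw [Complex.conj_eq_iff_im.mpr (ψ.2.2.1 hb z), show z' = z from Subtype.ext (by simpa using e)], by
      show classInner (fun m : M => indFun _ _ (m : A)) φ ≠ 0
      rw [(correspondence_irr M hφ hMI ψ.1 ((hscalar ψ.1).mpr ψ.2.2.2)).2]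
      exact (hscalar ψ.1).mpr ψ.2.2.2⟩
  refine (Nat.card_eq_of_bijective F ⟨fun ψ ψ' e => Subtype.ext ?_, fun ⟨χ, hodd, hre, hover⟩ => ?_⟩).symm
  · exact correspondence_injective M hφ hMI ψ.1 ψ'.1 ((hscalar ψ.1).mpr ψ.2.2.2)
      ((hscalar ψ'.1).mpr ψ'.2.2.2) (congrArg Subtype.val (congrArg Subtype.val e))
  · obtain ⟨ψ, hψ, hind, hmult⟩ := exists_inertia_correspondent_inner M χ.2 hφ hover
    let Ψ : IrrCharacter (inertia M φ) := ⟨ψ, hψ⟩
    have hΨ : classInner (fun m : M => (Ψ : inertia M φ → ℂ) (Subgroup.inclusion hMI m)) φ ≠ 0 := by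
      show classInner (fun m : M => ψ _) φ ≠ 0
      rw [hmult hMI]
      exact hover
    have hsel : Sel b (Subgroup.inclusion hMI) μ Ψ := by
      refine ⟨?_, fun hb => ?_, (hscalar Ψ).mp hΨ⟩
      · rw [show (χ : A → ℂ) = indFun (inertia M φ) (Ψ : inertia M φ → ℂ) from hind, hdeg] at hodd
        exact (Nat.odd_mul.mp hodd).2
      · have hcc : classInner (fun m : M => (cc Ψ : inertia M φ → ℂ) (Subgroup.inclusion hMI m)) φ ≠ 0 := by
          rw [hscalar]
          intro m
          rw [cc_apply, cc_apply, (hscalar Ψ).mp hΨ m, map_mul, hμ hb m]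
        have e : indFun (inertia M φ) (cc Ψ : inertia M φ → ℂ) =
            indFun (inertia M φ) (Ψ : inertia M φ → ℂ) := by
          funext a
          rw [← congrFun hind a, ← Complex.conj_eq_iff_im.mpr (hre hb a), congrFun hind a]
          simp only [indFun, map_mul, map_inv₀, map_natCast, map_sum]
          congr 1
          refine Finset.sum_congr rfl fun y _ => ?_
          by_cases hy : y⁻¹ * a * y ∈ inertia M φ
          · rw [extendByZero_mem _ _ hy, extendByZero_mem _ _ hy, cc_apply]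
          · rw [extendByZero_not_mem _ _ hy, extendByZero_not_mem _ _ hy, map_zero]
        intro a
        exact Complex.conj_eq_iff_im.mp (congrFun (congrArg Subtype.val
          (correspondence_injective M hφ hMI (cc Ψ) Ψ hcc hΨ e)) a)
    exact ⟨⟨Ψ, hsel⟩, Subtype.ext (Subtype.ext hind.symm)⟩

end CfsgLib.Char.OddDegreeCount
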