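import Cfsg.Agent.Lib.Char.OddDegreeCount.Basic
import Cfsg.Agent.Lib.Char.RealPPrime.Bijection
import Cfsg.Agent.Lib.Coprime.Solvable

/-!
# Counting characters of odd degree in solvable groups and in the Sylow normalizer

Real characters, or all characters when the Sylow `2`-subgroup is self-normalizing.
-/

set_option autoImplicit false
set_option linter.unusedSectionVars false

namespace CfsgLib.Char.OddDegreeCount

open scoped ComplexConjugate
open Cfsg CfsgLib.Char.RealPPrime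
open CfsgLib.Block.Glauberman (GInv)

universe u

/-- A finite partition. -/
theorem card_partition {X Q : Type*} [Finite X] [Fintype Q] (R : X → Q → Prop)
    (h : ∀ x, ∃! q, R x q) : Nat.card X = ∑ q, Nat.card {x // R x q} := by
  classical
  let f : X → Q := fun x => (h x).choose
  have hf : ∀ x q, f x = q ↔ R x q := fun x q =>
    ⟨fun e => e ▸ (h x).choose_spec.1, fun hr => ((h x).choose_spec.2 q hr).symm⟩
  rw [← Nat.card_congr (Equiv.sigmaFiberEquiv f), Nat.card_sigma]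
  exact Finset.sum_congr rfl fun q _ => Nat.card_congr (Equiv.subtypeEquivRight fun x => hf x q)

variable {G : Type u} [Group G] [Fintype G]

theorem codRestrict_hom_apply {Z : Type u} [Group Z] {A : Subgroup G} (ι : Z →* G) (h : ∀ z, ι z ∈ A)
    (z : Z) : ((ι.codRestrict A h z : A) : G) = ι z := rfl

/-- Without real restriction: invariant linear characters of an abelian subgroup of odd order with
no fixed point are trivial. -/
theorem fixed_lin_trivial {V P : Subgroup G} [V.Normal] (hab : ∀ x ∈ V, ∀ y ∈ V, x * y = y * x)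
    (hV : Odd (Nat.card V)) (hP : IsPGroup 2 P)
    (hfix : ∀ v ∈ V, (∀ a ∈ P, a * v * a⁻¹ = v) → v = 1) (ψ : V →* ℂˣ)
    (hψ : ∀ a ∈ P, ∀ v v' : V, (v' : G) = a * v * a⁻¹ → ψ v' = ψ v) : ψ = 1 := by
  classical
  letI : CommGroup V := { (inferInstance : Group V) with
    mul_comm := fun x y => Subtype.ext (hab _ x.2 _ y.2) }
  have := Fintype.ofFinite P
  refine MonoidHom.ext fun v => ?_
  let tr : P → V := fun a => ⟨a * v * (a : G)⁻¹, Subgroup.Normal.conj_mem inferInstance _ v.2 _⟩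
  have hfx : ∀ a ∈ P, a * ((∏ b : P, tr b : V) : G) * a⁻¹ = ((∏ b : P, tr b : V) : G) := by
    intro a ha
    let c : V →* V := (MulAut.conjNormal a : MulAut V).toMonoidHom
    have h1 : c (∏ b : P, tr b) = ∏ b : P, tr b := by
      rw [map_prod]
      refine Fintype.prod_equiv (Equiv.mulLeft (⟨a, ha⟩ : P)) _ _ fun b => Subtype.ext ?_
      simp [c, tr, mul_assoc]
    have h2 := congrArg Subtype.val h1
    exact h2
  have h3 : (∏ b : P, tr b : V) = 1 := Subtype.ext (hfix _ (Subtype.coe_prop _) hfx)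
  have h4 := congrArg ψ h3
  rw [map_prod, Finset.prod_congr rfl fun (b : P) _ => hψ b b.2 v (tr b) rfl, Finset.prod_const, map_one,
    Finset.card_univ, ← Nat.card_eq_fintype_card] at h4
  obtain ⟨a, ha⟩ := hP.exists_card_eq
  have h5 : ψ v ^ Nat.card V = 1 := by rw [← map_pow, pow_card_eq_one', map_one]
  rw [ha] at h4
  rw [MonoidHom.one_apply]
  exact RealPPrime.eq_one_of_pow_coprime ((Nat.coprime_two_left.mpr hV).pow_left a) h4 h5

/-- Two invariant linear constituents below one character are conjugate in the normalizer. -/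
theorem conj_below (P : Sylow 2 G) (M : Subgroup G) [M.Normal] [Fintype M] (μ μ' : M →* ℂˣ)
    (hμ : ∀ s ∈ (P : Subgroup G), ∀ m m' : M, (m' : G) = s * m * s⁻¹ → μ m' = μ m)
    (hμ' : ∀ s ∈ (P : Subgroup G), ∀ m m' : M, (m' : G) = s * m * s⁻¹ → μ' m' = μ' m)
    (χ : IrrCharacter G)
    (h : classInner (fun m : M => (χ : G → ℂ) m) (fun m => (μ m : ℂ)) ≠ 0)
    (h' : classInner (fun m : M => (χ : G → ℂ) m) (fun m => (μ' m : ℂ)) ≠ 0) :
    ∃ n ∈ Subgroup.normalizer ((P : Subgroup G) : Set G),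
      ∀ m m' : M, (m' : G) = n * m * n⁻¹ → μ' m = μ m' := by
  obtain ⟨g, hg⟩ : ∃ g : G, conjFun M (fun m => (μ m : ℂ)) g = fun m => (μ' m : ℂ) := by
    by_contra hc
    push Not at hc
    exact h' (classInner_restrict_zero M χ.2 (isIrrCharacter_lin μ) (isIrrCharacter_lin μ') h hc)
  have hP : ∀ (ν : M →* ℂˣ), (∀ s ∈ (P : Subgroup G), ∀ m m' : M, (m' : G) = s * m * s⁻¹ → ν m' = ν m) →
      (P : Subgroup G) ≤ inertia M (fun m => (ν m : ℂ)) := fun ν hν s hs =>
    (mem_inertia M _ s).mpr (funext fun m => congrArg Units.val (hν s hs m _ rfl))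
  have h2 : ∀ a ∈ (P : Subgroup G), g * a * g⁻¹ ∈ inertia M (fun m => (μ m : ℂ)) := fun a ha => by
    have h1 := (mem_inertia M _ a).mp (hP μ' hμ' ha)
    rw [← hg] at h1
    rw [mem_inertia, conjFun_mul, conjFun_mul, h1, conjFun_inv_cancel]
  obtain ⟨t, ht, htn⟩ := exists_normalizer_mul P _ (hP μ hμ) h2
  refine ⟨t⁻¹ * g, htn, fun m m' e => Units.ext ?_⟩
  have h3 : conjFun M (fun m => (μ m : ℂ)) (t⁻¹ * g) = fun m => (μ' m : ℂ) := by
    rw [conjFun_mul, (mem_inertia M _ _).mp (inv_mem ht), hg]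
  rw [← congrFun h3 m]
  exact congrArg (fun z => (μ z : ℂ)) (Subtype.ext e.symm)

/-- A character over a compatible linear one has the multiplier along `ι`. -/
theorem sel_scalar_of_over (M : Subgroup G) [M.Normal] [Fintype M] (μ : M →* ℂˣ)
    {Z : Type u} [Group Z] (ι : Z →* G) (lam : Z →* ℂˣ) (hιM : ∀ z, ι z ∈ M)
    (hinv : ∀ (g : G) z, ∃ z', ι z' = g * ι z * g⁻¹ ∧ lam z' = lam z)
    (hcompat : ∀ z, μ ⟨ι z, hιM z⟩ = lam z) (χ : IrrCharacter G)
    (h : classInner (fun m : M => (χ : G → ℂ) m) (fun m => (μ m : ℂ)) ≠ 0) :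
    ∀ z, (χ : G → ℂ) (ι z) = (χ : G → ℂ) 1 * (lam z : ℂ) := by
  classical
  intro z
  have hcl := clifford_smul M χ.2 (isIrrCharacter_lin μ) h
  have hind : ∀ z, indFun M (fun m => (μ m : ℂ)) (ι z) =
      (Nat.card M : ℂ)⁻¹ * ((Nat.card G : ℂ) * (lam z : ℂ)) := fun z => by
    rw [indFun, Finset.sum_congr rfl fun x _ => show extendByZero M (fun m => (μ m : ℂ)) (x⁻¹ * ι z * x) =
      (lam z : ℂ) from ?_, Finset.sum_const, Finset.card_univ, ← Nat.card_eq_fintype_card, nsmul_eq_mul]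
    obtain ⟨z', hz', hlz⟩ := hinv x⁻¹ z
    rw [inv_inv] at hz'
    rw [← hz', extendByZero_mem M _ (hιM z'), hcompat z', hlz]
  have e1 := congrFun hcl 1
  have ez := congrFun hcl ⟨ι z, hιM z⟩
  simp only [Pi.smul_apply, smul_eq_mul, OneMemClass.coe_one] at e1 ez
  have h1 := hind 1
  rw [map_one, map_one, Units.val_one, mul_one] at h1
  rw [h1] at e1
  rw [hind z] at ez
  have h0 : (Nat.card (inertia M fun m => (μ m : ℂ)) : ℂ) ≠ 0 := by exact_mod_cast Nat.card_pos.ne'
  refine mul_left_cancel₀ h0 ?_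
  linear_combination ez - (lam z : ℂ) * e1

variable (G) in
/-- The statement counted by induction. -/
def Claim (b : Prop) : Prop :=
  ∀ (P : Sylow 2 G), (¬ b → Subgroup.normalizer ((P : Subgroup G) : Set G) = (P : Subgroup G)) →
    ∀ (Z : Type u) [Group Z] (ι : Z →* G) (lam : Z →* ℂˣ),
      (∀ (g : G) z, ∃ z', ι z' = g * ι z * g⁻¹ ∧ lam z' = lam z) →
      ∀ hZ : ∀ z, ι z ∈ Subgroup.normalizer ((P : Subgroup G) : Set G), (∀ z, ι z ∈ (P : Subgroup G)) →
      Nat.card {χ : IrrCharacter G // Sel b ι lam χ} =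
        Nat.card {ψ : IrrCharacter ↥(Subgroup.normalizer ((P : Subgroup G) : Set G)) //
          Sel b (ι.codRestrict _ hZ) lam ψ}

omit [Fintype G] in
/-- The normalizer maps onto the normalizer of the image. -/
theorem exists_normalizer_lift [Finite G] (W : Subgroup G) [W.Normal] (P : Sylow 2 G) {x : G ⧸ W}
    (hx : x ∈ Subgroup.normalizer
      (((P.mapSurjective (QuotientGroup.mk'_surjective W) : Sylow 2 (G ⧸ W)) : Subgroup (G ⧸ W)) : Set (G ⧸ W))) :
    ∃ n ∈ Subgroup.normalizer ((P : Subgroup G) : Set G), QuotientGroup.mk' W n = x := by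
  have := Fintype.ofFinite G
  obtain ⟨g, rfl⟩ := QuotientGroup.mk'_surjective W x
  have h2 : ∀ a ∈ (P : Subgroup G), g * a * g⁻¹ ∈ W ⊔ (P : Subgroup G) := fun a ha => by
    obtain ⟨c, hc, hce⟩ := (Subgroup.mem_normalizer_iff.mp hx (QuotientGroup.mk' W a)).mp ⟨a, ha, rfl⟩
    rw [← map_inv, ← map_mul, ← map_mul] at hce
    have h3 := QuotientGroup.eq.mp hce
    rw [show g * a * g⁻¹ = c * (c⁻¹ * (g * a * g⁻¹)) by group]
    exact mul_mem (Subgroup.mem_sup_right hc) (Subgroup.mem_sup_left h3)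
  obtain ⟨t, ht, htn⟩ := exists_normalizer_mul P (W ⊔ (P : Subgroup G)) le_sup_right h2
  obtain ⟨w, hw, a, ha, rfl⟩ := Subgroup.mem_sup_of_normal_left.mp ht
  refine ⟨a * ((w * a)⁻¹ * g), mul_mem (Subgroup.le_normalizer ha) htn, ?_⟩
  rw [show a * ((w * a)⁻¹ * g) = w⁻¹ * g by group, map_mul, map_inv,
    show QuotientGroup.mk' W w = 1 from (QuotientGroup.eq_one_iff w).mpr hw, inv_one, one_mul]

omit [Fintype G] in
/-- Reduction to a quotient. -/
theorem quotient_step [Finite G] (b : Prop) (P : Sylow 2 G) (W : Subgroup G) [W.Normal]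
    (hb : ¬ b → Subgroup.normalizer ((P : Subgroup G) : Set G) = (P : Subgroup G))
    {Z : Type u} [Group Z] (ι : Z →* G) (lam : Z →* ℂˣ)
    (hinv : ∀ (g : G) z, ∃ z', ι z' = g * ι z * g⁻¹ ∧ lam z' = lam z)
    (hZ : ∀ z, ι z ∈ Subgroup.normalizer ((P : Subgroup G) : Set G)) (hZP : ∀ z, ι z ∈ (P : Subgroup G))
    (ih : Claim (G ⧸ W) b)
    (hG : ∀ χ : IrrCharacter G, Sel b ι lam χ → ∀ w ∈ W, (χ : G → ℂ) w = (χ : G → ℂ) 1)
    (hN : ∀ ψ : IrrCharacter ↥(Subgroup.normalizer ((P : Subgroup G) : Set G)),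
      Sel b (ι.codRestrict _ hZ) lam ψ →
      ∀ w : ↥(Subgroup.normalizer ((P : Subgroup G) : Set G)), (w : G) ∈ W →
        (ψ : ↥(Subgroup.normalizer ((P : Subgroup G) : Set G)) → ℂ) w =
        (ψ : ↥(Subgroup.normalizer ((P : Subgroup G) : Set G)) → ℂ) 1) :
    Nat.card {χ : IrrCharacter G // Sel b ι lam χ} =
      Nat.card {ψ : IrrCharacter ↥(Subgroup.normalizer ((P : Subgroup G) : Set G)) //
        Sel b (ι.codRestrict _ hZ) lam ψ} := by
  let π := QuotientGroup.mk' W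
  have hπ : Function.Surjective π := QuotientGroup.mk'_surjective W
  let Pb : Sylow 2 (G ⧸ W) := P.mapSurjective hπ
  have hmap : ∀ n ∈ Subgroup.normalizer ((P : Subgroup G) : Set G),
      π n ∈ Subgroup.normalizer ((Pb : Subgroup (G ⧸ W)) : Set (G ⧸ W)) := fun n hn => by
    have := Subgroup.le_normalizer_map π (Subgroup.mem_map_of_mem π hn)
    exact this
  have hbb : ¬ b → Subgroup.normalizer ((Pb : Subgroup (G ⧸ W)) : Set (G ⧸ W)) = (Pb : Subgroup (G ⧸ W)) :=
    fun h => le_antisymm (fun x hx => by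
      obtain ⟨n, hn, rfl⟩ := exists_normalizer_lift W P hx
      rw [hb h] at hn
      exact ⟨n, hn, rfl⟩) Subgroup.le_normalizer
  have hZb : ∀ z, (π.comp ι) z ∈ Subgroup.normalizer ((Pb : Subgroup (G ⧸ W)) : Set (G ⧸ W)) :=
    fun z => hmap _ (hZ z)
  have h := ih Pb hbb Z (π.comp ι) lam (fun g z => by
    obtain ⟨g, rfl⟩ := hπ g
    obtain ⟨z', h1, h2⟩ := hinv g z
    exact ⟨z', by simp only [MonoidHom.comp_apply, h1, map_mul, map_inv], h2⟩) hZb
    (fun z => ⟨ι z, hZP z, rfl⟩)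
  rw [card_sel_surj b ι lam π hπ (π.comp ι) (fun _ => rfl)
    fun χ hχ a ha => hG χ hχ a ((QuotientGroup.eq_one_iff a).mp ha), h]
  let r : ↥(Subgroup.normalizer ((P : Subgroup G) : Set G)) →*
      ↥(Subgroup.normalizer ((Pb : Subgroup (G ⧸ W)) : Set (G ⧸ W))) :=
    (π.comp (Subgroup.subtype _)).codRestrict _ fun n => hmap _ n.2
  refine (card_sel_surj b _ lam r (fun x => ?_) _ (fun z => rfl) fun ψ hψ a ha => hN ψ hψ a
    ((QuotientGroup.eq_one_iff _).mp (congrArg Subtype.val ha))).symm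
  obtain ⟨n, hn, e⟩ := exists_normalizer_lift W P x.2
  exact ⟨⟨n, hn⟩, Subtype.ext e⟩

/-- A constituent of odd degree fixed by `P`, on a normal subgroup. -/
theorem exists_fixed_constituent {A : Subgroup G} {P : Subgroup G} (hP : IsPGroup 2 P) (hPA : P ≤ A)
    {B : Subgroup G} [B.Normal] [Fintype B] (hBA : B ≤ A) (χ : IrrCharacter A)
    (hodd : Odd (charDegree (χ : A → ℂ))) :
    ∃ β : IrrCharacter B, GInv B P (β : B → ℂ) ∧ ¬ 2 ∣ charDegree (β : B → ℂ) ∧
      ∃ m : ℕ, classInner (fun x : B => (χ : A → ℂ) ⟨x, hBA x.2⟩) (β : B → ℂ) = m ∧ ¬ 2 ∣ m :=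
  exists_invariant_constituent hP hBA (fun _ _ b hb => Subgroup.Normal.conj_mem inferInstance b hb _)
    (isCharacter_irr χ)
    (fun s hs a a' e => by
      rw [← isClassFunction_irr χ a ⟨s, hPA hs⟩]
      exact congrArg _ (Subtype.ext e))
    (charDegree_spec χ) (fun h => Nat.not_even_iff_odd.mpr hodd (even_iff_two_dvd.mpr h))

/-- An invariant linear constituent on an odd abelian normal subgroup without fixed points. -/
theorem odd_trivial {A : Subgroup G} {P : Subgroup G} [Fintype A] (hP : IsPGroup 2 P) (hPA : P ≤ A)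
    (V : Subgroup G) [V.Normal] (hab : ∀ x ∈ V, ∀ y ∈ V, x * y = y * x)
    (hV : Odd (Nat.card V)) (hfix : ∀ v ∈ V, (∀ a ∈ P, a * v * a⁻¹ = v) → v = 1)
    (hVA : V ≤ A) (χ : IrrCharacter A) (hodd : Odd (charDegree (χ : A → ℂ))) :
    ∀ v : A, (v : G) ∈ V → (χ : A → ℂ) v = (χ : A → ℂ) 1 := by
  classical
  have := Fintype.ofFinite V
  obtain ⟨β, hβ, -, m, hm, hm2⟩ := exists_fixed_constituent hP hPA hVA χ hodd
  obtain ⟨ψ, hψ⟩ := linearCharEquiv.surjective
    ⟨β, degree_one_of_comm (fun a b => Subtype.ext (hab _ a.2 _ b.2)) β⟩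
  have e : ∀ v, (ψ v : ℂ) = (β : V → ℂ) v := fun v =>
    congrFun (congrArg Subtype.val (congrArg Subtype.val hψ)) v
  have h1 : ψ = 1 := fixed_lin_trivial hab hV hP hfix ψ fun a ha v v' h => Units.ext (by
    rw [e, e]; exact hβ a ha v v' h)
  have := Fintype.ofFinite (V.subgroupOf A)
  intro v hv
  refine trivial_of_one_constituent (V.subgroupOf A) χ ?_ v hv
  rw [show classInner (fun x : V.subgroupOf A => (χ : A → ℂ) x) (fun _ => 1) =
    classInner (fun x : V => (χ : A → ℂ) ⟨x, hVA x.2⟩) (fun _ => 1) from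
      classInner_equiv (Subgroup.subgroupOfEquivOfLe hVA) (fun x : V => (χ : A → ℂ) ⟨x, hVA x.2⟩) fun _ => 1]
  rw [show (fun _ : V => (1 : ℂ)) = (β : V → ℂ) from funext fun v => by rw [← e, h1]; rfl, hm]
  rw [Nat.cast_ne_zero]
  exact fun h => hm2 (h ▸ dvd_zero 2)

theorem claim (b : Prop) : ∀ (n : ℕ) (G : Type u) [Group G] [Fintype G] [Group.IsSolvable G],
    Nat.card G = n → Claim G b := by
  intro n
  induction n using Nat.strong_induction_on with
  | _ n ih => ?_
  intro G _ _ _ hn P hb Z _ ι lam hinv hZ hZP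
  subst hn
  classical
  set N := Subgroup.normalizer ((P : Subgroup G) : Set G) with hNdef
  have := Fintype.ofFinite N
  by_cases hcore : Cfsg.pPrimeCore 2 G = ⊥
  swap
  · -- an odd normal subgroup
    have hOn : (Cfsg.pPrimeCore 2 G).Normal := Subgroup.sSup_normal _ (fun _ h => h.1)
    obtain ⟨V, hVn, hV1, hVO, hmin⟩ := Coprime.exists_minimal_normal_le hcore
    obtain ⟨hab, -⟩ := Coprime.minimal_normal_solvable hV1 hmin
    have hVodd : Odd (Nat.card V) := by
      rw [← Nat.not_even_iff_odd, even_iff_two_dvd]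
      exact fun h => Coprime.pPrimeCore_not_dvd Nat.prime_two
        (h.trans (Subgroup.card_dvd_of_le hVO))
    have := Fintype.ofFinite (G ⧸ V)
    have hcard : Nat.card (G ⧸ V) < Nat.card G := by
      rw [V.card_eq_card_quotient_mul_card_subgroup]
      refine lt_mul_of_one_lt_right Nat.card_pos ?_
      exact Finite.one_lt_card_iff_nontrivial.mpr ((Subgroup.nontrivial_iff_ne_bot V).mpr hV1)
    have hVP : ∀ v ∈ V, v ∈ (P : Subgroup G) → v = 1 := fun v hv hvP => by
      obtain ⟨k, hk⟩ := P.2 ⟨v, hvP⟩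
      have h1 : (⟨v, hv⟩ : V) ^ Nat.card V = 1 := pow_card_eq_one'
      refine RealPPrime.eq_one_of_pow_coprime (x := v) ((Nat.coprime_two_left.mpr hVodd).pow_left k) (congrArg Subtype.val hk) ?_
      have h2 := congrArg Subtype.val h1
      simp only [SubmonoidClass.coe_pow, OneMemClass.coe_one] at h2
      exact h2
    refine quotient_step b P V hb ι lam hinv hZ hZP (ih _ hcard _ rfl) (fun χ hχ => ?_) fun ψ hψ w hw => ?_
    · by_cases hb' : b
      · exact real_odd_trivial V hVodd χ hχ.1 (hχ.2.1 hb')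
      · intro v hv
        let χ' : IrrCharacter (⊤ : Subgroup G) := ⟨fun x => (χ : G → ℂ) x,
          isIrrCharacter_comp_surjective χ.2 (⊤ : Subgroup G).subtype fun g => ⟨⟨g, trivial⟩, rfl⟩⟩
        exact odd_trivial P.2 le_top V hab hVodd (fun v hv hfix => hVP v hv (by
          rw [← hb hb', Subgroup.mem_normalizer_iff]
          intro a
          refine ⟨fun ha => ?_, fun ha => ?_⟩
          · have h1 := hfix a ha
            rw [mul_inv_eq_iff_eq_mul] at h1
            rw [mul_inv_eq_iff_eq_mul.mpr h1.symm]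
            exact ha
          · have h1 := hfix _ ha
            rw [mul_inv_eq_iff_eq_mul] at h1
            have h2 : v * a * v⁻¹ = a := by
              have h3 : v * a = v * (v * a * v⁻¹) := by rw [← h1]; group
              exact (mul_left_cancel h3).symm
            rwa [h2] at ha)) le_top χ' hχ.1 ⟨v, trivial⟩ hv
    · by_cases hb' : b
      · refine real_odd_trivial (V.subgroupOf N) ?_ ψ hψ.1 (hψ.2.1 hb') w hw
        refine hVodd.of_dvd_nat ?_
        rw [← Nat.card_congr ((V.subgroupOf N).equivMapOfInjective N.subtype N.subtype_injective).toEquiv.symm]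
        exact Subgroup.card_dvd_of_le (by rintro _ ⟨x, hx, rfl⟩; exact hx)
      · have hwP : (w : G) ∈ (P : Subgroup G) := (hb hb').le w.2
        rw [show w = 1 from Subtype.ext (hVP _ hw hwP)]
  -- the two-core is self-centralizing
  have hCM : Subgroup.centralizer (Cfsg.pCore 2 G : Set G) ≤ Cfsg.pCore 2 G :=
    Coprime.centralizer_pCore_le hcore
  have hMn : (Cfsg.pCore 2 G).Normal := Coprime.pCore_normal' 2
  set M := Cfsg.pCore 2 G with hMdef
  have hMP : M ≤ (P : Subgroup G) := Coprime.pCore_le_sylow P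
  have hMN : M ≤ N := hMP.trans Subgroup.le_normalizer
  have hMp : IsPGroup 2 M := Coprime.pCore_isPGroup 2
  have := Fintype.ofFinite M
  by_cases htop : M = ⊤
  · have hP : (P : Subgroup G) = ⊤ := top_unique (htop ▸ hMP)
    refine card_sel_surj b ι lam
      ((MonoidHom.id G).codRestrict N fun g => ?_) (fun x => ⟨x, Subtype.ext rfl⟩) _ (fun z => rfl)
      fun χ _ a ha => ?_
    · exact Subgroup.le_normalizer (show g ∈ (P : Subgroup G) by rw [hP]; trivial)
    · rw [show a = 1 from congrArg Subtype.val ha]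
  -- the image of `ι` is a normal two-subgroup
  have hιM : ∀ z, ι z ∈ M := by
    intro z
    have hn : ι.range.Normal := ⟨by
      rintro _ ⟨z, rfl⟩ g
      obtain ⟨z', h, -⟩ := hinv g z
      exact ⟨z', h⟩⟩
    exact PGroup.le_pCore hn (P.2.to_le (by rintro _ ⟨z, rfl⟩; exact hZP z)) ⟨z, rfl⟩
  -- invariant linear characters up to the normalizer
  let Fix := {μ : M →* ℂˣ // ∀ s ∈ (P : Subgroup G), ∀ m m' : M, (m' : G) = s * m * s⁻¹ → μ m' = μ m}
  let r : Fix → Fix → Prop := fun μ μ' =>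
    ∃ n ∈ N, ∀ m m' : M, (m' : G) = n * m * n⁻¹ → μ'.1 m = μ.1 m'
  let st : Setoid Fix := ⟨r, fun μ => ⟨1, one_mem N, fun m m' e => congrArg μ.1 (Subtype.ext (by simp [e]))⟩,
    fun {μ μ'} ⟨n, hn, h⟩ => ⟨n⁻¹, inv_mem hn, fun m m' e => (h m' m (by rw [e]; group)).symm⟩,
    fun {μ μ' μ''} ⟨n, hn, h⟩ ⟨n', hn', h'⟩ => ⟨n * n', mul_mem hn hn', fun m m' e => by
      rw [h' m ⟨n' * m * n'⁻¹, hMn.conj_mem _ m.2 _⟩ rfl, h _ m' (by rw [e]; group)]⟩⟩
  have : Finite Fix := Finite.of_injective (fun μ : Fix => linearCharEquiv μ.1) fun a b e =>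
    Subtype.ext (linearCharEquiv.injective e)
  have := Fintype.ofFinite (Quotient st)
  let incl : M →* N := Subgroup.inclusion hMN
  let overG : IrrCharacter G → (M →* ℂˣ) → Prop := fun χ μ =>
    classInner (fun m : M => (χ : G → ℂ) m) (fun m => (μ m : ℂ)) ≠ 0
  let overN : IrrCharacter N → (M →* ℂˣ) → Prop := fun ψ μ =>
    classInner (fun m : M => (ψ : N → ℂ) (incl m)) (fun m => (μ m : ℂ)) ≠ 0
  have hnorm : ∀ (μ : Fix) (n : G) (hn : n ∈ N), ∀ s ∈ (P : Subgroup G), ∀ m m' : M,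
      (m' : G) = s * m * s⁻¹ →
      μ.1 ⟨n * m' * n⁻¹, hMn.conj_mem _ m'.2 _⟩ = μ.1 ⟨n * m * n⁻¹, hMn.conj_mem _ m.2 _⟩ :=
    fun μ n hn s hs m m' e => μ.2 (n * s * n⁻¹) ((Subgroup.mem_normalizer_iff.mp hn s).mp hs) _ _ (by
      show n * (m' : G) * n⁻¹ = _
      rw [e]; group)
  have hlin : ∀ (A : Subgroup G) (hPA : (P : Subgroup G) ≤ A) (hMA : M ≤ A) (χ : IrrCharacter A),
      Odd (charDegree (χ : A → ℂ)) →
      ∃ μ : Fix, classInner (fun m : M => (χ : A → ℂ) ⟨m, hMA m.2⟩) (fun m => (μ.1 m : ℂ)) ≠ 0 := by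
    intro A hPA hMA χ hodd
    obtain ⟨β, hβ, hβd, m, hm, hm2⟩ := exists_fixed_constituent P.2 hPA hMA χ hodd
    obtain ⟨a, ha⟩ := hMp.exists_card_eq
    obtain ⟨j, -, hj⟩ := (Nat.dvd_prime_pow Nat.prime_two).mp (ha ▸ degree_dvd_card β (charDegree_spec β))
    have hj0 : j = 0 := by
      by_contra hne
      exact hβd (hj ▸ dvd_pow_self 2 hne)
    obtain ⟨ψ, hψ⟩ := linearCharEquiv.surjective
      ⟨β, by rw [charDegree_spec, hj, hj0, pow_zero, Nat.cast_one]⟩
    have e : ∀ v, (ψ v : ℂ) = (β : M → ℂ) v := fun v =>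
      congrFun (congrArg Subtype.val (congrArg Subtype.val hψ)) v
    refine ⟨⟨ψ, fun s hs v v' h => Units.ext (by rw [e, e]; exact hβ s hs v v' h)⟩, ?_⟩
    simp only [e]
    rw [hm]
    rw [Nat.cast_ne_zero]
    exact fun h => hm2 (h ▸ dvd_zero 2)
  have hMn' : (M.subgroupOf N).Normal := inferInstance
  have := Fintype.ofFinite (M.subgroupOf N)
  let eM : M.subgroupOf N ≃* M := Subgroup.subgroupOfEquivOfLe hMN
  have hoverN : ∀ ψ μ, overN ψ μ ↔
      classInner (fun x : M.subgroupOf N => (ψ : N → ℂ) x) (fun x => ((μ.comp eM.toMonoidHom) x : ℂ)) ≠ 0 :=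
    fun ψ μ => by
      show classInner _ _ ≠ 0 ↔ _
      rw [← classInner_equiv eM]
      rfl
  -- uniqueness and invariance under conjugation
  have huG : ∀ (χ : IrrCharacter G) (μ μ' : Fix), overG χ μ.1 → overG χ μ'.1 → r μ μ' := fun χ μ μ' h h' =>
    conj_below P M μ.1 μ'.1 μ.2 μ'.2 χ h h'
  have huN : ∀ (ψ : IrrCharacter N) (μ μ' : Fix), overN ψ μ.1 → overN ψ μ'.1 → r μ μ' := by
    intro ψ μ μ' h h'
    rw [hoverN] at h h'
    obtain ⟨g, hg⟩ : ∃ g : N, conjFun (M.subgroupOf N) (fun x => ((μ.1.comp eM.toMonoidHom) x : ℂ)) g =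
        fun x => ((μ'.1.comp eM.toMonoidHom) x : ℂ) := by
      by_contra hc
      push Not at hc
      exact h' (classInner_restrict_zero (M.subgroupOf N) ψ.2 (isIrrCharacter_lin _) (isIrrCharacter_lin _) h hc)
    refine ⟨g, g.2, fun m m' e => Units.ext ?_⟩
    have h1 := congrFun hg (eM.symm m)
    change (μ.1 _ : ℂ) = (μ'.1 (eM (eM.symm m)) : ℂ) at h1
    rw [MulEquiv.apply_symm_apply] at h1
    rw [← h1]
    exact congrArg (fun z => (μ.1 z : ℂ)) (Subtype.ext e.symm)
  have hmovG : ∀ (χ : IrrCharacter G) (μ μ' : Fix), r μ μ' → overG χ μ.1 → overG χ μ'.1 := by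
    intro χ μ μ' ⟨n, hn, hr⟩ h
    show classInner _ _ ≠ 0
    rw [show (fun m => (μ'.1 m : ℂ)) = conjFun M (fun m => (μ.1 m : ℂ)) n from funext fun m =>
      congrArg Units.val (hr m _ rfl), classInner_restrict_conj M (isClassFunction_irr χ)]
    exact h
  have hmovN : ∀ (ψ : IrrCharacter N) (μ μ' : Fix), r μ μ' → overN ψ μ.1 → overN ψ μ'.1 := by
    intro ψ μ μ' ⟨n, hn, hr⟩ h
    rw [hoverN] at h ⊢
    rw [show (fun x => ((μ'.1.comp eM.toMonoidHom) x : ℂ)) =
      conjFun (M.subgroupOf N) (fun x => ((μ.1.comp eM.toMonoidHom) x : ℂ)) ⟨n, hn⟩ from funext fun x =>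
      congrArg Units.val (hr (eM x) (eM _) rfl), classInner_restrict_conj _ (isClassFunction_irr ψ)]
    exact h
  rw [card_partition (fun (χ : {χ : IrrCharacter G // Sel b ι lam χ}) (q : Quotient st) => overG χ.1 q.out.1)
      fun χ => by
        let χ' : IrrCharacter (⊤ : Subgroup G) := ⟨fun x => (χ.1 : G → ℂ) x,
          isIrrCharacter_comp_surjective χ.1.2 (⊤ : Subgroup G).subtype fun g => ⟨⟨g, trivial⟩, rfl⟩⟩
        obtain ⟨μ, hμ⟩ := hlin ⊤ le_top le_top χ' χ.2.1
        refine ⟨Quotient.mk st μ, hmovG _ μ _ (Setoid.symm' st (Quotient.mk_out (s := st) μ)) hμ, fun q hq => ?_⟩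
        rw [← Quotient.out_eq q]
        exact Quotient.sound (huG _ _ _ hq hμ),
    card_partition (fun (ψ : {ψ : IrrCharacter N // Sel b (ι.codRestrict N hZ) lam ψ}) (q : Quotient st) =>
        overN ψ.1 q.out.1) fun ψ => by
        obtain ⟨μ, hμ⟩ := hlin N Subgroup.le_normalizer hMN ψ.1 ψ.2.1
        refine ⟨Quotient.mk st μ, hmovN _ μ _ (Setoid.symm' st (Quotient.mk_out (s := st) μ)) hμ, fun q hq => ?_⟩
        rw [← Quotient.out_eq q]
        exact Quotient.sound (huN _ _ _ hq hμ)]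
  refine Finset.sum_congr rfl fun q _ => ?_
  obtain ⟨μ, hμ⟩ := q.out
  let μn : M.subgroupOf N →* ℂˣ := μ.comp eM.toMonoidHom
  -- a real character lies over real linear characters only
  have hreal : ∀ {X : Prop}, (∀ n ∈ N, (∀ m m' : M, (m' : G) = n * m * n⁻¹ → conj (μ m : ℂ) = μ m') → X) →
      (∀ μ' : Fix, (∀ m, (μ'.1 m : ℂ) = conj (μ m : ℂ)) → r ⟨μ, hμ⟩ μ') → X := by
    intro X hX hr
    let μc : Fix := ⟨(Units.map (starRingEnd ℂ).toMonoidHom).comp μ, fun s hs m m' e => by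
      simp only [MonoidHom.comp_apply, hμ s hs m m' e]⟩
    obtain ⟨n, hn, h⟩ := hr μc fun m => rfl
    exact hX n hn fun m m' e => congrArg Units.val (h m m' e)
  have hreal' : ∀ n ∈ N, (∀ m m' : M, (m' : G) = n * m * n⁻¹ → conj (μ m : ℂ) = μ m') →
      ∀ m, conj ((μ m : ℂ)) = (μ m : ℂ) := by
    intro n hn h
    let J := inertia M (fun m => (μ m : ℂ))
    have hPJ : (P : Subgroup G) ≤ J := fun s hs =>
      (mem_inertia M _ s).mpr (funext fun m => congrArg Units.val (hμ s hs m _ rfl))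
    have h2 : n ^ 2 ∈ J := (mem_inertia M _ _).mpr (funext fun m => by
      show ((μ ⟨n ^ 2 * m * (n ^ 2)⁻¹, hMn.conj_mem _ m.2 _⟩ : ℂˣ) : ℂ) = μ m
      rw [← h ⟨n * m * n⁻¹, hMn.conj_mem _ m.2 _⟩ _ (by rw [pow_two]; group), ← h m _ rfl, Complex.conj_conj])
    have hPn : ((P : Subgroup G).subgroupOf N).Normal := Subgroup.normal_in_normalizer
    have hidx : Odd ((P : Subgroup G).subgroupOf N).index := by
      rw [← Nat.not_even_iff_odd, even_iff_two_dvd]
      exact (P.subtype (N := N) Subgroup.le_normalizer).not_dvd_index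
    obtain ⟨j, hj⟩ := hidx
    have h3 : n ^ (2 * j + 1) ∈ J := by
      rw [← hj]
      exact hPJ (((P : Subgroup G).subgroupOf N).pow_index_mem ⟨n, hn⟩)
    have h4 : n ∈ J := by
      rw [pow_succ, pow_mul] at h3
      exact (J.mul_mem_cancel_left (J.pow_mem h2 j)).mp h3
    intro m
    rw [h m ⟨n * m * n⁻¹, hMn.conj_mem _ m.2 _⟩ rfl]
    exact congrFun ((mem_inertia M _ n).mp h4) m
  have hrealG : b → ∀ χ : IrrCharacter G, Sel b ι lam χ → overG χ μ → ∀ m, conj ((μ m : ℂ)) = (μ m : ℂ) := by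
    intro hb' χ hχ ho
    refine hreal hreal' fun μ' e => huG χ ⟨μ, hμ⟩ μ' ho ?_
    have h1 : classInner (fun m : M => (χ : G → ℂ) m) (fun m => (μ'.1 m : ℂ)) =
        conj (classInner (fun m : M => (χ : G → ℂ) m) (fun m => (μ m : ℂ))) := by
      simp only [classInner, map_mul, map_inv₀, map_natCast, map_sum, e, Complex.conj_conj,
        Complex.conj_eq_iff_im.mpr (hχ.2.1 hb' _)]
    exact fun h0 => ho (by rwa [h1, map_eq_zero] at h0)
  have hrealN : b → ∀ ψ : IrrCharacter N, Sel b (ι.codRestrict N hZ) lam ψ → overN ψ μ →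
      ∀ m, conj ((μ m : ℂ)) = (μ m : ℂ) := by
    intro hb' ψ hψ ho
    refine hreal hreal' fun μ' e => huN ψ ⟨μ, hμ⟩ μ' ho ?_
    have h1 : classInner (fun m : M => (ψ : N → ℂ) (incl m)) (fun m => (μ'.1 m : ℂ)) =
        conj (classInner (fun m : M => (ψ : N → ℂ) (incl m)) (fun m => (μ m : ℂ))) := by
      simp only [classInner, map_mul, map_inv₀, map_natCast, map_sum, e, Complex.conj_conj,
        Complex.conj_eq_iff_im.mpr (hψ.2.1 hb' _)]
    exact fun h0 => ho (by rwa [h1, map_eq_zero] at h0)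
  by_cases hgood : (b → ∀ m, conj ((μ m : ℂ)) = (μ m : ℂ)) ∧ ∀ z, μ ⟨ι z, hιM z⟩ = lam z
  swap
  · rw [Nat.card_eq_zero.mpr (Or.inl ⟨fun ⟨χ, ho⟩ => hgood ⟨fun hb' => hrealG hb' χ.1 χ.2 ho,
      lam_eq_of_over ι lam hιM μ χ.1 χ.2.2.2 ho⟩⟩),
      Nat.card_eq_zero.mpr (Or.inl ⟨fun ⟨ψ, ho⟩ => hgood ⟨fun hb' => hrealN hb' ψ.1 ψ.2 ho,
        lam_eq_of_over (M := M.subgroupOf N) (ι.codRestrict N hZ) lam (fun z => hιM z) μn ψ.1 ψ.2.2.2
          ((hoverN _ _).mp ho)⟩⟩)]
  obtain ⟨hμr, hcompat⟩ := hgood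
  set φ : M → ℂ := fun m => (μ m : ℂ) with hφdef
  have hMI : M ≤ inertia M φ := le_inertia M (isClassFunction_of_isCharacter (isCharacter_of_isIrr (isIrrCharacter_lin μ)))
  have hPI : (P : Subgroup G) ≤ inertia M φ := fun s hs =>
    (mem_inertia M _ s).mpr (funext fun m => congrArg Units.val (hμ s hs m _ rfl))
  have hIodd : Odd (inertia M φ).index := by
    rw [← Nat.not_even_iff_odd, even_iff_two_dvd]
    exact fun h => P.not_dvd_index (h.trans (Subgroup.index_dvd_of_le hPI))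
  -- both fibres over `μ`
  have hG1 : Nat.card {χ : {χ : IrrCharacter G // Sel b ι lam χ} // overG χ.1 μ} =
      Nat.card {ψ : IrrCharacter (inertia M φ) // Sel b (Subgroup.inclusion hMI) μ ψ} := by
    rw [← card_over b M μ hμr hIodd hMI]
    exact Nat.card_congr
      { toFun := fun χ => ⟨χ.1.1, χ.1.2.1, χ.1.2.2.1, χ.2⟩
        invFun := fun χ => ⟨⟨χ.1, χ.2.1, χ.2.2.1,
          sel_scalar_of_over M μ ι lam hιM hinv hcompat χ.1 χ.2.2.2⟩, χ.2.2.2⟩
        left_inv := fun _ => rfl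
        right_inv := fun _ => rfl }
  set φn : M.subgroupOf N → ℂ := fun x => (μn x : ℂ) with hφndef
  have hMIn : M.subgroupOf N ≤ inertia (M.subgroupOf N) φn :=
    le_inertia _ (isClassFunction_of_isCharacter (isCharacter_of_isIrr (isIrrCharacter_lin μn)))
  have hIn : ∀ x : N, x ∈ inertia (M.subgroupOf N) φn ↔ (x : G) ∈ inertia M φ := by
    intro x
    rw [mem_inertia, mem_inertia]
    exact ⟨fun h => funext fun m => congrFun h (eM.symm m), fun h => funext fun m => congrFun h (eM m)⟩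
  have hInodd : Odd (inertia (M.subgroupOf N) φn).index := by
    rw [← Nat.not_even_iff_odd, even_iff_two_dvd]
    exact fun h => (P.subtype (N := N) Subgroup.le_normalizer).not_dvd_index
      (h.trans (Subgroup.index_dvd_of_le fun x hx => (hIn x).mpr (hPI hx)))
  have hN1 : Nat.card {ψ : {ψ : IrrCharacter N // Sel b (ι.codRestrict N hZ) lam ψ} // overN ψ.1 μ} =
      Nat.card {ψ : IrrCharacter (inertia (M.subgroupOf N) φn) // Sel b (Subgroup.inclusion hMIn) μn ψ} := by
    rw [← card_over b (M.subgroupOf N) μn (fun hb' x => hμr hb' (eM x)) hInodd hMIn]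
    exact Nat.card_congr
      { toFun := fun ψ => ⟨ψ.1.1, ψ.1.2.1, ψ.1.2.2.1, (hoverN _ _).mp ψ.2⟩
        invFun := fun ψ => ⟨⟨ψ.1, ψ.2.1, ψ.2.2.1,
          sel_scalar_of_over (M.subgroupOf N) μn (ι.codRestrict N hZ) lam (fun z => hιM z) (fun g z => by
            obtain ⟨z', h1, h2⟩ := hinv g z
            exact ⟨z', Subtype.ext h1, h2⟩) hcompat ψ.1 ψ.2.2.2⟩, (hoverN _ _).mpr ψ.2.2.2⟩
        left_inv := fun _ => rfl
        right_inv := fun _ => rfl }
  rw [hG1, hN1]
  -- the stabilizer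
  let PI : Sylow 2 (inertia M φ) := P.subtype hPI
  have hPIiff : ∀ x : inertia M φ, x ∈ Subgroup.normalizer ((PI : Subgroup (inertia M φ)) : Set (inertia M φ)) ↔
      (x : G) ∈ N := by
    intro x
    rw [Subgroup.mem_normalizer_iff, hNdef, Subgroup.mem_normalizer_iff]
    refine ⟨fun h a => ⟨fun ha => (h ⟨a, hPI ha⟩).mp ha, fun ha => ?_⟩, fun h a => h a⟩
    have haI : a ∈ inertia M φ := by
      have h1 := mul_mem (mul_mem (inv_mem x.2) (hPI ha)) x.2
      simpa [mul_assoc] using h1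
    exact (h ⟨a, haI⟩).mpr ha
  have hsymN : Nat.card {ψ : IrrCharacter (inertia (M.subgroupOf N) φn) //
      Sel b (Subgroup.inclusion hMIn) μn ψ} =
      Nat.card {ψ : IrrCharacter ↥(Subgroup.normalizer ((PI : Subgroup (inertia M φ)) : Set (inertia M φ))) //
        Sel b ((Subgroup.inclusion hMI).codRestrict _ fun m => (hPIiff _).mpr (hMN m.2)) μ ψ} := by
    let f : ↥(Subgroup.normalizer ((PI : Subgroup (inertia M φ)) : Set (inertia M φ))) →*
        inertia (M.subgroupOf N) φn :=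
      { toFun := fun y => ⟨⟨(y : inertia M φ), (hPIiff _).mp y.2⟩, (hIn _).mpr (y : inertia M φ).2⟩
        map_one' := rfl
        map_mul' := fun a b => rfl }
    have hf : Function.Surjective f := fun x =>
      ⟨⟨⟨((x : N) : G), (hIn _).mp x.2⟩, (hPIiff _).mpr (x : N).2⟩, rfl⟩
    have h1 := card_sel_surj b ((Subgroup.inclusion hMI).codRestrict _ fun m => (hPIiff _).mpr (hMN m.2)) μ f hf
      ((Subgroup.inclusion hMIn).comp eM.symm.toMonoidHom) (fun m => rfl)
      (fun χ _ a ha => by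
        rw [show a = 1 from Subtype.ext (Subtype.ext
          (congrArg (fun z : inertia (M.subgroupOf N) φn => ((z : N) : G)) ha))])
    rw [h1]
    refine Nat.card_congr (Equiv.subtypeEquivRight fun ψ => ?_)
    refine and_congr_right fun _ => and_congr_right fun _ => ⟨fun h z => ?_, fun h z => ?_⟩
    · exact h (eM.symm z) |>.trans (by show _ * ((μ (eM (eM.symm z)) : ℂˣ) : ℂ) = _; rw [MulEquiv.apply_symm_apply])
    · have h2 := h (eM z)
      rw [MonoidHom.comp_apply, show eM.symm.toMonoidHom (eM z) = z from eM.symm_apply_apply z] at h2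
      exact h2
  rw [hsymN]
  have hbI : ¬ b → Subgroup.normalizer ((PI : Subgroup (inertia M φ)) : Set (inertia M φ)) =
      (PI : Subgroup (inertia M φ)) := fun h => le_antisymm (fun x hx => by
    show (x : G) ∈ (P : Subgroup G)
    rw [← hb h]
    exact (hPIiff x).mp hx) Subgroup.le_normalizer
  have hinvI : ∀ (g : inertia M φ) (m : M), ∃ m', Subgroup.inclusion hMI m' =
      g * Subgroup.inclusion hMI m * g⁻¹ ∧ μ m' = μ m := fun g m =>
    ⟨⟨g * m * (g : G)⁻¹, hMn.conj_mem _ m.2 _⟩, Subtype.ext rfl,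
      Units.ext (congrFun ((mem_inertia M φ g).mp g.2) m)⟩
  have := Fintype.ofFinite (inertia M φ)
  by_cases hI : inertia M φ = ⊤
  swap
  · exact ih _ (Nat.lt_of_le_of_ne (Subgroup.card_le_card_group _) fun e => hI (Subgroup.eq_top_of_card_eq _ e))
      (inertia M φ) rfl PI hbI M (Subgroup.inclusion hMI) μ hinvI _ fun m => hMP m.2
  -- the stabilizer is everything: divide by the kernel
  let W : Subgroup (inertia M φ) := μ.ker.map (Subgroup.inclusion hMI)
  have hW : W.Normal := ⟨by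
    rintro _ ⟨m, hm, rfl⟩ g
    obtain ⟨m', h1, h2⟩ := hinvI g m
    refine ⟨m', ?_, h1⟩
    rw [SetLike.mem_coe, MonoidHom.mem_ker, h2]
    exact hm⟩
  have hW1 : μ.ker ≠ ⊥ := by
    intro hk
    refine htop (top_unique fun g _ => hCM (Subgroup.mem_centralizer_iff.mpr fun a ha => ?_))
    have hgI : g ∈ inertia M φ := hI ▸ Subgroup.mem_top g
    let a' : M := ⟨g * a * g⁻¹, hMn.conj_mem _ ha _⟩
    have h1 : μ (a' * ⟨a, ha⟩⁻¹) = 1 := by
      rw [map_mul, map_inv, mul_inv_eq_one]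
      exact Units.ext (congrFun ((mem_inertia M φ g).mp hgI) ⟨a, ha⟩)
    have h2 : a' * ⟨a, ha⟩⁻¹ ∈ μ.ker := h1
    rw [hk, Subgroup.mem_bot, mul_inv_eq_one] at h2
    have h3 : g * a * g⁻¹ = a := congrArg Subtype.val h2
    rw [mul_inv_eq_iff_eq_mul] at h3
    exact h3.symm
  have := Fintype.ofFinite (inertia M φ ⧸ W)
  have hcardW : Nat.card (inertia M φ ⧸ W) < Nat.card G := by
    refine lt_of_lt_of_le ?_ (Subgroup.card_le_card_group (inertia M φ))
    rw [W.card_eq_card_quotient_mul_card_subgroup]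
    refine lt_mul_of_one_lt_right Nat.card_pos ?_
    refine Finite.one_lt_card_iff_nontrivial.mpr ((Subgroup.nontrivial_iff_ne_bot W).mpr fun e => hW1 ?_)
    exact (Subgroup.map_eq_bot_iff_of_injective _ (Subgroup.inclusion_injective _)).mp e
  refine quotient_step b PI W hbI (Subgroup.inclusion hMI) μ hinvI _ (fun m => hMP m.2)
    (ih _ hcardW _ rfl) (fun χ hχ w hw => ?_) fun ψ hψ w hw => ?_
  · obtain ⟨m, hm, rfl⟩ := hw
    rw [hχ.2.2 m, MonoidHom.mem_ker.mp hm, Units.val_one, mul_one]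
  · obtain ⟨m, hm, hmw⟩ := hw
    rw [show w = (Subgroup.inclusion hMI).codRestrict _ (fun m => (hPIiff _).mpr (hMN m.2)) m from
      Subtype.ext hmw.symm, hψ.2.2 m, MonoidHom.mem_ker.mp hm, Units.val_one, mul_one]

end CfsgLib.Char.OddDegreeCount
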