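import Cfsg.Agent.Lib.Char.OddDegreeCount.Count
import Cfsg.Agent.Lib.Coprime.PGroupFrattini
import Cfsg.Agent.Lib.PGroup.FrattiniLe

/-!
# When all characters of odd degree of a solvable group are real
-/

set_option autoImplicit false
set_option linter.unusedSectionVars false

namespace CfsgLib.Char.OddDegreeCount

open scoped ComplexConjugate
open Cfsg CfsgLib.Char.RealPPrime

universe u

variable {G : Type u} [Group G] [Fintype G] [Group.IsSolvable G]

theorem sel_bot_iff {A : Type u} [Group A] [Finite A] (b : Prop) (ι : (⊥ : Subgroup G) →* A)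
    (χ : IrrCharacter A) : Sel b ι 1 χ ↔
      Odd (charDegree (χ : A → ℂ)) ∧ (b → ∀ a, ((χ : A → ℂ) a).im = 0) := by
  refine and_congr_right fun _ => and_iff_left_of_imp fun _ z => ?_
  rw [show z = 1 from Subtype.ext (Subgroup.mem_bot.mp z.2), map_one, map_one, Units.val_one, mul_one]

theorem count_bot (b : Prop) (P : Sylow 2 G)
    (hb : ¬ b → Subgroup.normalizer ((P : Subgroup G) : Set G) = (P : Subgroup G)) :
    Nat.card {χ : IrrCharacter G // Odd (charDegree (χ : G → ℂ)) ∧ (b → ∀ a, ((χ : G → ℂ) a).im = 0)} =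
    Nat.card {ψ : IrrCharacter ↥(Subgroup.normalizer ((P : Subgroup G) : Set G)) //
      Odd (charDegree (ψ : ↥(Subgroup.normalizer ((P : Subgroup G) : Set G)) → ℂ)) ∧
        (b → ∀ a, ((ψ : ↥(Subgroup.normalizer ((P : Subgroup G) : Set G)) → ℂ) a).im = 0)} := by
  have h1 : ∀ z : (⊥ : Subgroup G), (⊥ : Subgroup G).subtype z = 1 := fun z => Subgroup.mem_bot.mp z.2
  have h := claim b (Nat.card G) G rfl P hb (⊥ : Subgroup G) (⊥ : Subgroup G).subtype 1
    (fun g z => ⟨1, by rw [map_one, h1, mul_one, mul_inv_cancel], rfl⟩)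
    (fun z => by rw [h1]; exact one_mem _) fun z => by rw [h1]; exact one_mem _
  rwa [Nat.card_congr (Equiv.subtypeEquivRight fun χ => sel_bot_iff b _ χ),
    Nat.card_congr (Equiv.subtypeEquivRight fun χ => sel_bot_iff b _ χ)] at h

omit [Group.IsSolvable G] in
/-- A fixed element in an odd abelian normal subgroup gives a character of odd degree that is not
real. -/
theorem no_fixed_point (hall : ∀ χ : IrrCharacter G, Odd (charDegree (χ : G → ℂ)) → ∀ g, ((χ : G → ℂ) g).im = 0)
    (P : Sylow 2 G) (V : Subgroup G) [V.Normal] (hab : ∀ x ∈ V, ∀ y ∈ V, x * y = y * x)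
    (hV : Odd (Nat.card V)) {v : G} (hv : v ∈ V) (hfix : ∀ a ∈ (P : Subgroup G), a * v * a⁻¹ = v) :
    v = 1 := by
  classical
  by_contra hv1
  letI : CommGroup V := { (inferInstance : Group V) with
    mul_comm := fun x y => Subtype.ext (hab _ x.2 _ y.2) }
  obtain ⟨ψ, hψ⟩ := CommGroup.exists_apply_ne_one_of_hasEnoughRootsOfUnity V ℂ
    (a := ⟨v, hv⟩) fun e => hv1 (congrArg Subtype.val e)
  have := Fintype.ofFinite (P : Subgroup G)
  let θ : V →* ℂˣ := ∏ a : (P : Subgroup G), ψ.comp (MulAut.conjNormal (a : G) : MulAut V).toMonoidHom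
  have hinv : ∀ s ∈ (P : Subgroup G), ∀ w w' : V, (w' : G) = s * w * s⁻¹ → θ w' = θ w := by
    intro s hs w w' e
    simp only [θ, MonoidHom.finsetProd_apply, MonoidHom.comp_apply]
    refine Fintype.prod_equiv (Equiv.mulRight (⟨s, hs⟩ : (P : Subgroup G))) _ _ fun a => ?_
    exact congrArg ψ (Subtype.ext (by simp [e, mul_assoc]))
  have hθv : θ ⟨v, hv⟩ ≠ 1 := by
    simp only [θ, MonoidHom.finsetProd_apply, MonoidHom.comp_apply]
    rw [Finset.prod_congr rfl fun (a : (P : Subgroup G)) _ => congrArg ψ (show _ = (⟨v, hv⟩ : V) from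
      Subtype.ext (by simpa using hfix a a.2)), Finset.prod_const, Finset.card_univ, ← Nat.card_eq_fintype_card]
    obtain ⟨k, hk⟩ := P.2.exists_card_eq
    rw [hk]
    intro h
    refine hψ (RealPPrime.eq_one_of_pow_coprime ((Nat.coprime_two_left.mpr hV).pow_left k) h ?_)
    rw [← map_pow, pow_card_eq_one', map_one]
  set H := V ⊔ (P : Subgroup G)
  have hVH : V ≤ H := le_sup_left
  have hdisj : ∀ x ∈ V, x ∈ (P : Subgroup G) → x = 1 := fun x hx hxP => by
    obtain ⟨k, hk⟩ := P.2 ⟨x, hxP⟩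
    have h1 : (⟨x, hx⟩ : V) ^ Nat.card V = 1 := pow_card_eq_one'
    have h2 := congrArg Subtype.val h1
    simp only [SubmonoidClass.coe_pow, OneMemClass.coe_one] at h2
    exact RealPPrime.eq_one_of_pow_coprime (x := x) ((Nat.coprime_two_left.mpr hV).pow_left k)
      (congrArg Subtype.val hk) h2
  obtain ⟨f, hf⟩ := exists_extend V (P : Subgroup G) H (fun h hh => Subgroup.mem_sup_of_normal_left.mp hh)
    hdisj θ (fun s hs _ => hinv s hs) hVH fun s _ _ w hw => Subgroup.Normal.conj_mem inferInstance w hw s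
  have := Fintype.ofFinite H
  have := Fintype.ofFinite V
  have := Fintype.ofFinite (IrrCharacter G)
  have hfirr : IsIrrCharacter H fun h => (f h : ℂ) := isIrrCharacter_lin f
  have hI : IsCharacter G (indFun H fun h => (f h : ℂ)) := isCharacter_indFun H (isCharacter_of_isIrr hfirr)
  choose c hc using fun χ : IrrCharacter G => classInner_char_irr_nat hI χ
  have hsum : ∑ χ, c χ * charDegree (χ : G → ℂ) = H.index := by
    have h := congrFun (classFun_expand (isClassFunction_of_isCharacter hI)) 1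
    simp only [indFun_one, map_one, Units.val_one, mul_one, Finset.sum_apply, Pi.smul_apply, smul_eq_mul] at h
    rw [Finset.sum_congr rfl fun χ _ => by rw [hc, charDegree_spec, ← Nat.cast_mul], ← Nat.cast_sum,
      Nat.cast_inj] at h
    exact h.symm
  obtain ⟨χ, hodd⟩ : ∃ χ, Odd (c χ * charDegree (χ : G → ℂ)) := by
    by_contra hcon
    push Not at hcon
    have h : Even H.index := hsum ▸ Finset.sum_induction _ _ (fun _ _ => Even.add) Even.zero
      fun χ _ => Nat.not_odd_iff_even.mp (hcon χ)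
    exact P.not_dvd_index (h.two_dvd.trans (Subgroup.index_dvd_of_le le_sup_right))
  obtain ⟨hc1, hd1⟩ := Nat.odd_mul.mp hodd
  have hH : classInner (fun h : H => (χ : G → ℂ) h) (fun h => (f h : ℂ)) ≠ 0 := by
    intro e
    have h1 := hc χ
    rw [classInner_indFun H _ _ (isClassFunction_irr χ), ← classInner_conj, e, map_zero] at h1
    rw [show c χ = 0 by exact_mod_cast h1.symm] at hc1
    exact Nat.not_odd_zero hc1
  have hVθ : classInner (fun w : V => (χ : G → ℂ) w) (fun w => (θ w : ℂ)) ≠ 0 :=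
    classInner_comp_ne_zero (Subgroup.inclusion hVH) (χ := fun h : H => (χ : G → ℂ) h)
      (isCharacter_comp (isCharacter_irr χ) H.subtype) ⟨_, hfirr⟩ hH
      (isCharacter_of_isIrr (isIrrCharacter_lin θ)) (by
        rw [show (fun w : V => (f (Subgroup.inclusion hVH w) : ℂ)) = fun w => (θ w : ℂ) from funext fun w =>
          congrArg Units.val (hf w 1 _ (one_mem _) (by simp))]
        rw [show classInner (fun w : V => (θ w : ℂ)) (fun w => (θ w : ℂ)) = 1 from
          classInner_irr_self (⟨_, isIrrCharacter_lin θ⟩ : IrrCharacter V)]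
        exact one_ne_zero)
  apply hVθ
  rw [show (fun w : V => (χ : G → ℂ) w) = (χ : G → ℂ) 1 • fun _ => (1 : ℂ) from funext fun w => by
    rw [real_odd_trivial V hV χ hd1 (hall χ hd1) w w.2, Pi.smul_apply, smul_eq_mul, mul_one],
    classInner_smul_left]
  refine mul_eq_zero_of_right _ (classInner_irr_ne (χ := ⟨fun _ => 1, isIrrCharacter_one⟩)
    (ψ := ⟨_, isIrrCharacter_lin θ⟩) fun e => hθv (Units.ext ?_))
  exact (congrFun (congrArg Subtype.val e) ⟨v, hv⟩).symm

/-- If all characters of odd degree are real the Sylow `2`-subgroups are self-normalizing. -/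
theorem selfNormalizing_of_all_real : ∀ (n : ℕ) (G : Type u) [Group G] [Fintype G] [Group.IsSolvable G],
    Nat.card G = n →
    (∀ χ : IrrCharacter G, Odd (charDegree (χ : G → ℂ)) → ∀ g, ((χ : G → ℂ) g).im = 0) →
    ∀ P : Sylow 2 G, Subgroup.normalizer ((P : Subgroup G) : Set G) = (P : Subgroup G) := by
  intro n
  induction n using Nat.strong_induction_on with
  | _ n ih => ?_
  intro G _ _ _ hn hall P
  subst hn
  classical
  refine le_antisymm (fun x hx => ?_) Subgroup.le_normalizer
  have step : ∀ (W : Subgroup G) [W.Normal], W ≠ ⊥ →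
      ∃ w ∈ W, ∃ a ∈ (P : Subgroup G), w * a = x := by
    intro W _ hW
    have := Fintype.ofFinite (G ⧸ W)
    have hcard : Nat.card (G ⧸ W) < Nat.card G := by
      rw [W.card_eq_card_quotient_mul_card_subgroup]
      refine lt_mul_of_one_lt_right Nat.card_pos ?_
      exact Finite.one_lt_card_iff_nontrivial.mpr ((Subgroup.nontrivial_iff_ne_bot W).mpr hW)
    have h := ih _ hcard (G ⧸ W) rfl (fun χ hodd g => by
      obtain ⟨g, rfl⟩ := QuotientGroup.mk'_surjective W g
      exact hall ⟨_, isIrrCharacter_comp_surjective χ.2 _ (QuotientGroup.mk'_surjective W)⟩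
        (by simpa [charDegree] using hodd) g) (P.mapSurjective (QuotientGroup.mk'_surjective W))
    obtain ⟨a, ha, hae⟩ := h.le (Subgroup.le_normalizer_map (QuotientGroup.mk' W)
      (Subgroup.mem_map_of_mem _ hx))
    refine ⟨x * a⁻¹, ?_, a, ha, inv_mul_cancel_right x a⟩
    refine (QuotientGroup.eq_one_iff _).mp ?_
    rw [← QuotientGroup.mk'_apply, map_mul, map_inv, hae, mul_inv_cancel]
  by_cases hcore : Cfsg.pPrimeCore 2 G = ⊥
  swap
  · have hOn : (Cfsg.pPrimeCore 2 G).Normal := Subgroup.sSup_normal _ (fun _ h => h.1)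
    obtain ⟨V, hVn, hV1, hVO, hmin⟩ := Coprime.exists_minimal_normal_le hcore
    obtain ⟨hab, -⟩ := Coprime.minimal_normal_solvable hV1 hmin
    have hVodd : Odd (Nat.card V) := by
      rw [← Nat.not_even_iff_odd, even_iff_two_dvd]
      exact fun h => Coprime.pPrimeCore_not_dvd Nat.prime_two (h.trans (Subgroup.card_dvd_of_le hVO))
    obtain ⟨w, hw, a, ha, rfl⟩ := step V hV1
    have hwN : w ∈ Subgroup.normalizer ((P : Subgroup G) : Set G) := by
      have := mul_mem hx (inv_mem (Subgroup.le_normalizer ha))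
      rwa [mul_inv_cancel_right] at this
    have hw1 : w = 1 := no_fixed_point hall P V hab hVodd hw fun s hs => by
      have h1 : s * w * s⁻¹ * w⁻¹ ∈ V := mul_mem (hVn.conj_mem w hw s) (inv_mem hw)
      have h2 : s * w * s⁻¹ * w⁻¹ ∈ (P : Subgroup G) := by
        rw [show s * w * s⁻¹ * w⁻¹ = s * (w * s⁻¹ * w⁻¹) by group]
        exact mul_mem hs ((Subgroup.mem_normalizer_iff.mp hwN _).mp (inv_mem hs))
      obtain ⟨k, hk⟩ := P.2 ⟨_, h2⟩
      have h3 : (⟨_, h1⟩ : V) ^ Nat.card V = 1 := pow_card_eq_one'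
      have h4 := congrArg Subtype.val h3
      simp only [SubmonoidClass.coe_pow, OneMemClass.coe_one] at h4
      exact mul_inv_eq_one.mp (RealPPrime.eq_one_of_pow_coprime (x := s * w * s⁻¹ * w⁻¹)
        ((Nat.coprime_two_left.mpr hVodd).pow_left k) (congrArg Subtype.val hk) h4)
    rw [hw1, one_mul]
    exact ha
  have hMn : (Cfsg.pCore 2 G).Normal := Coprime.pCore_normal' 2
  by_cases hM : Cfsg.pCore 2 G = ⊥
  · have h := Coprime.centralizer_pCore_le (p := 2) hcore
      (show x ∈ Subgroup.centralizer (Cfsg.pCore 2 G : Set G) from Subgroup.mem_centralizer_iff.mpr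
        fun a ha => by
          rw [hM, SetLike.mem_coe, Subgroup.mem_bot] at ha
          rw [ha, one_mul, mul_one])
    rw [hM, Subgroup.mem_bot] at h
    rw [h]
    exact one_mem _
  obtain ⟨w, hw, a, ha, rfl⟩ := step _ hM
  exact mul_mem (Coprime.pCore_le_sylow P hw) ha

/-- Both parts of the theorem. -/
theorem main (P : Sylow 2 G) :
    Nat.card {χ : IrrCharacter G // (∀ g : G, ((χ : G → ℂ) g).im = 0) ∧ Odd (charDegree (χ : G → ℂ))} =
      Nat.card {ψ : IrrCharacter ↥(Subgroup.normalizer ((P : Subgroup G) : Set G)) //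
        (∀ g, ((ψ : ↥(Subgroup.normalizer ((P : Subgroup G) : Set G)) → ℂ) g).im = 0) ∧
        Odd (charDegree (ψ : ↥(Subgroup.normalizer ((P : Subgroup G) : Set G)) → ℂ))} ∧
    ((∀ χ : IrrCharacter G, Odd (charDegree (χ : G → ℂ)) → ∀ g : G, ((χ : G → ℂ) g).im = 0) ↔
      (commutator (P : Subgroup G) = frattini (P : Subgroup G) ∧
        Subgroup.normalizer ((P : Subgroup G) : Set G) = (P : Subgroup G))) := by
  classical
  set N := Subgroup.normalizer ((P : Subgroup G) : Set G) with hN
  have hr := count_bot True P (fun h => absurd trivial h)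
  simp only [true_implies] at hr
  have hr' : Nat.card {χ : IrrCharacter G // (∀ g : G, ((χ : G → ℂ) g).im = 0) ∧ Odd (charDegree (χ : G → ℂ))} =
      Nat.card {ψ : IrrCharacter N // (∀ g, ((ψ : N → ℂ) g).im = 0) ∧ Odd (charDegree (ψ : N → ℂ))} := by
    rw [Nat.card_congr (Equiv.subtypeEquivRight fun _ => and_comm), hr]
    exact Nat.card_congr (Equiv.subtypeEquivRight fun _ => and_comm)
  refine ⟨hr', fun hall => ?_, fun ⟨hcomm, hself⟩ => ?_⟩
  · have hself := selfNormalizing_of_all_real (Nat.card G) G rfl hall P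
    refine ⟨le_antisymm (Coprime.commutator_le_frattini P.2) ?_, hself⟩
    have ha := count_bot False P fun _ => hself
    simp only [false_implies, and_true] at ha
    rw [← Nat.card_congr (Equiv.subtypeEquivRight (p := fun χ : IrrCharacter G =>
      (∀ g, ((χ : G → ℂ) g).im = 0) ∧ Odd (charDegree (χ : G → ℂ))) fun χ => ⟨fun h => h.2,
        fun h => ⟨hall χ h, h⟩⟩), hr'] at ha
    have hrealN : ∀ ψ : IrrCharacter N, Odd (charDegree (ψ : N → ℂ)) → ∀ g, ((ψ : N → ℂ) g).im = 0 := by
      intro ψ hψ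
      have hbij := (Nat.bijective_iff_injective_and_card
        (fun x : {ψ : IrrCharacter N // (∀ g, ((ψ : N → ℂ) g).im = 0) ∧ Odd (charDegree (ψ : N → ℂ))} =>
          (⟨x.1, x.2.2⟩ : {ψ : IrrCharacter N // Odd (charDegree (ψ : N → ℂ))}))).mpr
        ⟨fun a b e => Subtype.ext (congrArg (fun z => z.1) e), ha⟩
      obtain ⟨⟨x, hx⟩, e⟩ := hbij.2 ⟨ψ, hψ⟩
      rw [show ψ = x from (congrArg Subtype.val e).symm]
      exact hx.1
    refine FrattiniLe.frattini_le_of_pow_of_commutator (p := 2) (fun x => ?_) le_rfl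
    by_contra hx
    have hne : (Abelianization.of (x ^ 2) : Abelianization (P : Subgroup G)) ≠ 1 := fun e =>
      hx ((QuotientGroup.eq_one_iff _).mp e)
    obtain ⟨φ, hφ⟩ := CommGroup.exists_apply_ne_one_of_hasEnoughRootsOfUnity
      (Abelianization (P : Subgroup G)) ℂ hne
    let e : N →* (P : Subgroup G) := (Subgroup.subtype N).codRestrict _ fun n => hself.le n.2
    let ν : IrrCharacter N := ⟨_, isIrrCharacter_lin ((φ.comp Abelianization.of).comp e)⟩
    have hν := hrealN ν (by
      rw [charDegree_eq_of_one (d := 1) (show (ν : N → ℂ) 1 = ((1 : ℕ) : ℂ) by simp [ν])]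
      exact odd_one) ⟨x, hself.ge x.2⟩
    have h1 := Complex.conj_eq_iff_im.mpr hν
    apply hφ
    change conj ((φ (Abelianization.of x) : ℂˣ) : ℂ) = ((φ (Abelianization.of x) : ℂˣ) : ℂ) at h1
    rw [map_pow, map_pow, pow_two, mul_eq_one_iff_eq_inv]
    refine Units.ext ?_
    rw [← h1]
    exact conj_lin (φ.comp Abelianization.of) x
  · intro χ hχ
    have ha := count_bot False P fun _ => hself
    simp only [false_implies, and_true] at ha
    have hrealN : ∀ ψ : IrrCharacter N, Odd (charDegree (ψ : N → ℂ)) → ∀ g, ((ψ : N → ℂ) g).im = 0 := by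
      intro ψ hψ g
      let e : (P : Subgroup G) →* N := Subgroup.inclusion Subgroup.le_normalizer
      have he : Function.Surjective e := fun n => ⟨⟨n, hself.le n.2⟩, rfl⟩
      obtain ⟨a, ha⟩ := P.2.exists_card_eq
      have hcard : Nat.card N ∣ 2 ^ a := ha ▸ (Subgroup.card_dvd_of_le hself.le)
      obtain ⟨j, -, hj⟩ := (Nat.dvd_prime_pow Nat.prime_two).mp
        ((degree_dvd_card ψ (charDegree_spec ψ)).trans hcard)
      have hj0 : j = 0 := by
        by_contra h
        exact Nat.not_even_iff_odd.mpr hψ (by rw [hj]; exact (even_iff_two_dvd.mpr (dvd_pow_self 2 h)))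
      obtain ⟨f, hf⟩ := linearCharEquiv.surjective ⟨ψ, by rw [charDegree_spec, hj, hj0, pow_zero, Nat.cast_one]⟩
      rw [show (ψ : N → ℂ) g = (f g : ℂ) from
        (congrFun (congrArg Subtype.val (congrArg Subtype.val hf)) g).symm]
      obtain ⟨y, rfl⟩ := he g
      have h1 : y ^ 2 ∈ commutator (P : Subgroup G) := hcomm ▸ Coprime.pow_mem_frattini P.2 y
      have h2 : (f.comp e) (y ^ 2) = 1 := Abelianization.commutator_subset_ker (f.comp e) h1
      refine Complex.conj_eq_iff_im.mp ?_
      rw [conj_lin]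
      rw [map_pow, pow_two, mul_eq_one_iff_eq_inv] at h2
      exact (congrArg Units.val h2).symm
    rw [← Nat.card_congr (Equiv.subtypeEquivRight (p := fun ψ : IrrCharacter N =>
      (∀ g, ((ψ : N → ℂ) g).im = 0) ∧ Odd (charDegree (ψ : N → ℂ))) fun ψ => ⟨fun h => h.2,
        fun h => ⟨hrealN ψ h, h⟩⟩), ← hr'] at ha
    have hbij := (Nat.bijective_iff_injective_and_card
      (fun x : {χ : IrrCharacter G // (∀ g, ((χ : G → ℂ) g).im = 0) ∧ Odd (charDegree (χ : G → ℂ))} =>
        (⟨x.1, x.2.2⟩ : {χ : IrrCharacter G // Odd (charDegree (χ : G → ℂ))}))).mpr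
      ⟨fun a b e => Subtype.ext (congrArg (fun z => z.1) e), ha.symm⟩
    obtain ⟨⟨x, hx⟩, e⟩ := hbij.2 ⟨χ, hχ⟩
    rw [show χ = x from (congrArg Subtype.val e).symm]
    exact hx.1

end CfsgLib.Char.OddDegreeCount
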